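import Cfsg.Agent.Spec2P.KleinTrivial
import Cfsg.Agent.S0508
import Cfsg.Agent.SmallGroups.Basic

/-!
# Simple groups with Klein four Sylow 2-subgroup and element orders `2, 2p` in the even part

Such a group is isomorphic to `PSL₂(q)`, `q` odd.
-/

set_option autoImplicit false

namespace Cfsg.Agent.Spec2P

open Subgroup

variable {G : Type*} [Group G] [Finite G] {p : ℕ}

/-- A `p`-subgroup normalised by `S`. -/
def Inv (S : Sylow 2 G) (p : ℕ) (Y : Subgroup G) : Prop :=
  IsPGroup p Y ∧ (S : Subgroup G) ≤ normalizer (Y : Set G)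

variable {S : Sylow 2 G} (hS : IsKleinFour (S : Subgroup G))
include hS

/-- Two maximal invariant `p`-subgroups with nontrivial intersection coincide. -/
theorem eq_of_meet (h : Hyp G p)
    (htriv : ∀ d ∈ centralizer ((S : Subgroup G) : Set G), Odd (orderOf d) → d = 1)
    {T Z : Subgroup G} (hT : Maximal (Inv S p) T) (hZ : Maximal (Inv S p) Z) (hI : T ⊓ Z ≠ ⊥) :
    T = Z := by
  haveI := Fact.mk h.hp
  haveI : Fact (Nat.Prime 2) := ⟨Nat.prime_two⟩
  by_contra hne
  set bad : Set (Subgroup G × Subgroup G) := {q | Maximal (Inv S p) q.1 ∧ Maximal (Inv S p) q.2 ∧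
    q.1 ⊓ q.2 ≠ ⊥ ∧ q.1 ≠ q.2} with hbad
  obtain ⟨⟨T, Z⟩, ⟨hT, hZ, hI, hne⟩, hmax⟩ := Set.Finite.exists_maximalFor
    (fun q : Subgroup G × Subgroup G => Nat.card (q.1 ⊓ q.2 : Subgroup G)) bad (Set.toFinite _)
    ⟨(T, Z), hT, hZ, hI, hne⟩
  dsimp only at hT hZ hI hne hmax
  set I := T ⊓ Z with hIdef
  have hSI : (S : Subgroup G) ≤ normalizer (I : Set G) :=
    Signalizer.le_normalizer_inf hT.prop.2 hZ.prop.2
  have hIp : IsPGroup p I := hT.prop.1.to_le inf_le_left
  rcases cyc_or_oddPart hS h hSI with ⟨x', hx', hcx⟩ | ⟨R, hR, -⟩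
  · refine hI (eq_bot_iff.2 fun y hy => mem_bot.2 ?_)
    exact htriv y (le_centralizer_of_invariant hS h hcx hIp hSI hx' hy)
      (odd_orderOf_of_mem (h.odd_card_of_pGroup hIp) hy)
  have hSR : (S : Subgroup G) ≤ normalizer (R : Set G) := hSI.trans hR.self_le_normalizer
  have hRp : IsPGroup p R := by
    obtain ⟨k, hk⟩ : ∃ k, Nat.card R = p ^ k := by
      refine ⟨_, Nat.eq_prime_pow_of_unique_prime_dvd Nat.card_pos.ne' fun {q} hq hqd => ?_⟩
      by_contra hqp
      haveI := Fact.mk hq
      obtain ⟨Q, hQ, hQS⟩ := Signalizer.exists_isSyl_invariant (q := q) S.2 hSR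
        (fun hd => Nat.not_even_iff_odd.2 hR.odd_card (even_iff_two_dvd.2 hd))
      have hQo : Odd (Nat.card Q) := hR.odd_card.of_dvd_nat (card_dvd_of_le hQ.le)
      have hQb : Q ≤ (⊥ : Subgroup G) := by
        refine le_of_centralizers hS hQo hQS fun a ha ha1 g hg => mem_bot.2 ?_
        obtain ⟨hgQ, hga⟩ := Subgroup.mem_inf.1 hg
        have h1 := h.pow_p_of_invol (Invol.klein_ne_one S ha hS ha1)
          (show Commute g a from mem_centralizer_singleton_iff.1 hga).symm
          (odd_orderOf_of_mem hQo hgQ)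
        obtain ⟨j, hj⟩ := hQ.isPGroup ⟨g, hgQ⟩
        have h2 : orderOf g ∣ q ^ j :=
          orderOf_dvd_of_pow_eq_one (by simpa using congrArg Subtype.val hj)
        exact orderOf_eq_one_iff.1 (Nat.eq_one_of_dvd_coprimes
          (((Nat.coprime_primes hq h.hp).2 hqp).pow_left j) h2 (orderOf_dvd_of_pow_eq_one h1))
      have := hQ.not_dvd_relIndex
      rw [le_bot_iff.1 hQb, relIndex_bot_left] at this
      exact this hqd
    exact IsPGroup.of_card hk
  obtain ⟨W, hRW, hW⟩ := (Set.toFinite {Y | Inv S p Y}).exists_le_maximal (show Inv S p R from ⟨hRp, hSR⟩)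
  have key : ∀ A B : Subgroup G, Maximal (Inv S p) A → Maximal (Inv S p) B → A ≠ B → A ⊓ B = I →
      A = W := by
    intro A B hA hB hAB hABI
    by_contra hAW
    have hlt : I < A ⊓ W := by
      have hIA : I ≤ A := hABI ▸ inf_le_left
      have hne' : A ≠ I := fun e => hAB (le_antisymm (e ▸ hABI ▸ inf_le_right)
        (hA.2 hB.prop (e ▸ hABI ▸ inf_le_right)))
      have hnle : ¬ normalizer (I : Set G) ⊓ A ≤ I := fun hle =>
        hne' (Signalizer.eq_of_normalizer_inf_le_self hA.prop.1 hIA hle)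
      have hle : normalizer (I : Set G) ⊓ A ≤ A ⊓ W := le_inf inf_le_right
        ((hR.le_of_odd inf_le_left
          ((h.odd_card_of_pGroup hA.prop.1).of_dvd_nat (card_dvd_of_le inf_le_right))).trans hRW)
      refine lt_of_le_of_ne ((le_inf Subgroup.le_normalizer hIA).trans hle) fun e => hnle ?_
      exact hle.trans e.ge
    have hcard : Nat.card I < Nat.card (A ⊓ W : Subgroup G) := by
      refine lt_of_le_of_ne (Subgroup.card_le_of_le hlt.le) fun e => hlt.ne ?_
      exact Subgroup.eq_of_le_of_card_ge hlt.le e.ge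
    have hmem : (A, W) ∈ bad := ⟨hA, hW, fun e => by rw [e] at hlt; exact not_lt_bot hlt, hAW⟩
    have := hmax hmem hcard.le
    dsimp only at this
    omega
  exact hne ((key T Z hT hZ hne rfl).trans (key Z T hZ hT (Ne.symm hne) (inf_comm _ _)).symm)

/-- No invariant `p`-subgroup meets the centralisers of two involutions of `S`. -/
theorem no_two (h : Hyp G p) {x : G} (hx : Cyc (S : Subgroup G) x)
    (htriv : ∀ d ∈ centralizer ((S : Subgroup G) : Set G), Odd (orderOf d) → d = 1)
    {Y : Subgroup G} (hY : Inv S p Y) {t s f g : G} (ht : t ∈ (S : Subgroup G))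
    (hs : s ∈ (S : Subgroup G)) (ht1 : t ≠ 1) (hs1 : s ≠ 1) (hts : t ≠ s)
    (hf : f ∈ Y) (hg : g ∈ Y) (hft : Commute f t) (hgs : Commute g s) (hf1 : f ≠ 1) (hg1 : g ≠ 1) :
    False := by
  haveI := Fact.mk h.hp
  obtain ⟨T, hYT, hT⟩ := (Set.toFinite {Z | Inv S p Z}).exists_le_maximal hY
  have hpart : ∀ a ∈ (S : Subgroup G), a ≠ 1 → ∀ k ∈ T, k ≠ 1 → Commute k a →
      ∀ y : G, Commute y a → Odd (orderOf y) → y ∈ T := by
    intro a ha ha1 k hk hk1 hka y hy hyo
    obtain ⟨R, hR, hRp, -⟩ := exists_centralizer_oddPart hS h ha ha1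
    have hSa : (S : Subgroup G) ≤ centralizer ({a} : Set G) :=
      fun b hb => mem_centralizer_singleton_iff.2 (comm hS hb ha)
    obtain ⟨A, hRA, hA⟩ := (Set.toFinite {Z | Inv S p Z}).exists_le_maximal
      (show Inv S p R from ⟨hRp, hSa.trans hR.self_le_normalizer⟩)
    have hkR : k ∈ R := (hR.iff k (mem_centralizer_singleton_iff.2 hka.eq)).2
      (odd_orderOf_of_mem (h.odd_card_of_pGroup hT.prop.1) hk)
    have e : T = A := eq_of_meet hS h htriv hT hA fun e => by
      have : k ∈ T ⊓ A := Subgroup.mem_inf.2 ⟨hk, hRA hkR⟩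
      rw [e, mem_bot] at this
      exact hk1 this
    rw [e]
    exact hRA ((hR.iff y (mem_centralizer_singleton_iff.2 hy.eq)).2 hyo)
  set T' := T.map (MulAut.conj x).toMonoidHom with hT'
  have hmap : ∀ y ∈ T, x * y * x⁻¹ ∈ T' := fun y hy => ⟨y, hy, rfl⟩
  have hinv : ∀ z : G, z ∈ normalizer ((S : Subgroup G) : Set G) → ∀ Z : Subgroup G, Inv S p Z →
      Inv S p (Z.map (MulAut.conj z).toMonoidHom) := by
    intro z hz Z hZ
    refine ⟨hZ.1.map _, fun a ha => ?_⟩
    rw [Signalizer.map_conj_eq_self_iff.symm, Signalizer.map_conj_map_conj]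
    have ha' : z⁻¹ * a * z ∈ (S : Subgroup G) := by
      have := (mem_normalizer_iff.1 (inv_mem hz) a).1 ha
      rwa [inv_inv] at this
    rw [show a * z = z * (z⁻¹ * a * z) by group, ← Signalizer.map_conj_map_conj,
      Signalizer.map_conj_eq_self_iff.2 (hZ.2 ha')]
  have hT'max : Maximal (Inv S p) T' := by
    refine ⟨hinv x hx.mem T hT.prop, fun Z hZ hle => ?_⟩
    have h1 : T ≤ Z.map (MulAut.conj x⁻¹).toMonoidHom := by
      have := Subgroup.map_mono (f := (MulAut.conj x⁻¹).toMonoidHom) hle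
      rwa [hT', Signalizer.map_conj_map_conj, inv_mul_cancel, Signalizer.map_conj_one] at this
    have h2 := hT.2 (hinv x⁻¹ (inv_mem hx.mem) Z hZ) h1
    have h3 := Subgroup.map_mono (f := (MulAut.conj x).toMonoidHom) h2
    rwa [Signalizer.map_conj_map_conj, mul_inv_cancel, Signalizer.map_conj_one] at h3
  have hfT := hYT hf
  have hgT := hYT hg
  have hconjodd : ∀ y ∈ T, Odd (orderOf (x * y * x⁻¹)) := fun y hy => by
    have e : orderOf (x * y * x⁻¹) = orderOf y := MulEquiv.orderOf_eq (MulAut.conj x) y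
    rw [e]
    exact odd_orderOf_of_mem (h.odd_card_of_pGroup hT.prop.1) hy
  have hcc : ∀ y a : G, Commute y a → Commute (x * y * x⁻¹) (x * a * x⁻¹) := fun y a hc =>
    hc.map (MulAut.conj x)
  obtain ⟨y, hy, hy1, hyT⟩ : ∃ y ∈ T, y ≠ 1 ∧ x * y * x⁻¹ ∈ T := by
    set t' := x * t * x⁻¹ with ht'
    have ht'S : t' ∈ (S : Subgroup G) := (mem_normalizer_iff.1 hx.mem t).1 ht
    rcases four_cases hS ht hs ht1 hs1 hts ht'S with e | e | e | e
    · exact absurd (conj_eq_one_iff.1 e) ht1
    · exact absurd e (hx.move t ht ht1)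
    · exact ⟨f, hfT, hf1, hpart s hs hs1 g hgT hg1 hgs _
        (e ▸ hcc f t hft) (hconjodd f hfT)⟩
    · have hs'S : x * s * x⁻¹ ∈ (S : Subgroup G) := (mem_normalizer_iff.1 hx.mem s).1 hs
      rcases four_cases hS ht hs ht1 hs1 hts hs'S with e' | e' | e' | e'
      · exact absurd (conj_eq_one_iff.1 e') hs1
      · exact ⟨g, hgT, hg1, hpart t ht ht1 f hfT hf1 hft _ (e' ▸ hcc g s hgs) (hconjodd g hgT)⟩
      · exact absurd e' (hx.move s hs hs1)
      · exact absurd (mul_left_cancel (mul_right_cancel (e.trans e'.symm))) hts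
  have heq : T = T' := eq_of_meet hS h htriv hT hT'max fun e => by
    have : x * y * x⁻¹ ∈ T ⊓ T' := Subgroup.mem_inf.2 ⟨hyT, hmap y hy⟩
    rw [e, mem_bot] at this
    exact hy1 (conj_eq_one_iff.1 this)
  have := le_centralizer_of_invariant hS h hx hT.prop.1 hT.prop.2
    (Signalizer.map_conj_eq_self_iff.1 heq.symm) hfT
  exact hf1 (htriv f this (odd_orderOf_of_mem (h.odd_card_of_pGroup hT.prop.1) hfT))

omit hS in
theorem isKleinFour_of_card {S : Sylow 2 G} (hc : Nat.card (S : Subgroup G) = 4)
    (h2 : ∀ g ∈ (S : Subgroup G), g * g = 1) : IsKleinFour (S : Subgroup G) where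
  card_four := hc
  exponent_two := by
    haveI : Nontrivial (S : Subgroup G) := Finite.one_lt_card_iff_nontrivial.mp (by omega)
    refine Nat.le_antisymm (Nat.le_of_dvd (by norm_num) (Monoid.exponent_dvd_of_forall_pow_eq_one
      fun g => Subtype.ext (by rw [SubgroupClass.coe_pow, pow_two]; exact h2 g g.2))) ?_
    exact Monoid.one_lt_exponent

/-- The theorem for a Klein four Sylow 2-subgroup, in terms of `Hyp`. -/
theorem klein_psl [IsSimpleGroup G] (hnc : ∃ a b : G, a * b ≠ b * a) (h : Hyp G p) :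
    ∃ (F : Type) (_ : Field F) (_ : Fintype F), Odd (Fintype.card F) ∧
      Nonempty (G ≃* Matrix.ProjectiveSpecialLinearGroup (Fin 2) F) := by
  haveI := Fact.mk h.hp
  haveI : Fact (Nat.Prime 2) := ⟨Nat.prime_two⟩
  have hS4 : Nat.card (S : Subgroup G) = 4 := hS.card_four
  obtain ⟨t, ht, ht1⟩ : ∃ t ∈ (S : Subgroup G), t ≠ 1 := by
    refine (S : Subgroup G).ne_bot_iff_exists_ne_one.1 ?_ |>.elim
      fun u hu => ⟨u.1, u.2, fun e => hu (Subtype.ext e)⟩
    intro e
    rw [e, card_bot] at hS4
    omega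
  have hto : orderOf t = 2 := Invol.klein_ne_one S ht hS ht1
  -- an element cycling `S`
  obtain ⟨x, hx⟩ : ∃ x, Cyc (S : Subgroup G) x := by
    rcases cyc_or_oddPart hS h (H := ⊤) le_top with ⟨x, -, hx⟩ | ⟨R, hR, hle⟩
    · exact ⟨x, hx⟩
    exfalso
    haveI : R.Normal := normalizer_eq_top_iff.1 (top_le_iff.1 hR.self_le_normalizer)
    rcases IsSimpleGroup.eq_bot_or_eq_top_of_normal R inferInstance with e | e
    · rw [e, bot_sup_eq, top_le_iff] at hle
      obtain ⟨a, b, hab⟩ := hnc
      exact hab (comm hS (hle ▸ mem_top a) (hle ▸ mem_top b))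
    · have := (hR.iff t (mem_top t)).1 (e ▸ mem_top t)
      rw [hto] at this
      exact absurd this (by decide)
  have htriv : ∀ d ∈ centralizer ((S : Subgroup G) : Set G), Odd (orderOf d) → d = 1 :=
    fun d hd ho => odd_centralizer_trivial hS h hx hd ho
  set C := centralizer ({t} : Set G) with hC
  obtain ⟨P, hP, hPp, -⟩ := exists_centralizer_oddPart hS h ht ht1
  have hSC : (S : Subgroup G) ≤ C :=
    fun a ha => mem_centralizer_singleton_iff.2 (comm hS ha ht)
  -- the other involutions of `S` invert `P`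
  have hinv : ∀ s ∈ (S : Subgroup G), s ≠ 1 → s ≠ t → ∀ y ∈ P, s * y * s⁻¹ = y⁻¹ := by
    intro s hs hs1 hst y hy
    rw [inv_eq hS hs]
    refine LocalEven.CoreGen.inverts (mul_self_eq hS hs)
      (hP.self_le_normalizer (hSC hs)) (eq_bot_iff.2 fun z hz => mem_bot.2 ?_) hy
    obtain ⟨hzP, hzs⟩ := Subgroup.mem_inf.1 hz
    refine htriv z (mem_centralizer_iff.2 fun a ha => ?_) (odd_orderOf_of_mem hP.odd_card hzP)
    have c1 : Commute z t := mem_centralizer_singleton_iff.1 (hP.le hzP)
    have c2 : Commute z s := mem_centralizer_singleton_iff.1 hzs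
    rcases four_cases hS ht hs ht1 hs1 hst.symm ha with rfl | rfl | rfl | rfl
    · simp
    · exact c1.eq.symm
    · exact c2.eq.symm
    · exact (c1.mul_right c2).eq.symm
  obtain ⟨s, hs, hs1, hst⟩ : ∃ s ∈ (S : Subgroup G), s ≠ 1 ∧ s ≠ t :=
    ⟨x * t * x⁻¹, (mem_normalizer_iff.1 hx.mem t).1 ht, fun e => ht1 (conj_eq_one_iff.1 e),
      hx.move t ht ht1⟩
  have hts1 : t * s ≠ 1 := fun e => hst (by rw [eq_inv_of_mul_eq_one_right e, inv_eq hS ht])
  have htst : t * s ≠ t := fun e => hs1 (mul_eq_left.1 e)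
  -- the centraliser of an element of `P`
  have hcent : ∀ f ∈ P, f ≠ 1 → ∀ w ∈ centralizer ({f} : Set G), w ∈ C := by
    intro f hf hf1 w hw
    have hfo : orderOf f = p := h.orderOf_eq (h.pow_p_of_mem_pGroup hPp hf) hf1
    set H := centralizer ({f} : Set G) with hH
    have htH : t ∈ H := mem_centralizer_singleton_iff.2
      (mem_centralizer_singleton_iff.1 (hP.le hf)).symm
    obtain ⟨T, hT⟩ := (IsPGroup.of_card (n := 1) (by
      rw [Nat.card_zpowers, ← Subgroup.orderOf_coe, hto, pow_one]) :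
        IsPGroup 2 (zpowers (⟨t, htH⟩ : H))).exists_le_sylow
    obtain ⟨k, hk⟩ := T.isPGroup'.exists_card_eq
    have hk1 : k = 1 := by
      have h2 : 2 ∣ 2 ^ k := by
        have h3 := Subgroup.orderOf_dvd_natCard _ (hT (mem_zpowers _))
        rw [← Subgroup.orderOf_coe, hto] at h3
        rwa [← hk]
      rcases k with _ | _ | k
      · norm_num at h2
      · rfl
      exfalso
      obtain ⟨Q, hQ⟩ := (T.isPGroup'.map H.subtype).exists_le_sylow
      have hQ4 : Nat.card (Q : Subgroup G) = 4 := by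
        rw [← hS4, Q.card_eq_multiplicity, S.card_eq_multiplicity]
      have hQeq : (T : Subgroup H).map H.subtype = Q := by
        refine Subgroup.eq_of_le_of_card_ge hQ ?_
        rw [hQ4, card_map_of_injective H.subtype_injective, hk, show (4 : ℕ) = 2 ^ 2 by rfl]
        exact Nat.pow_le_pow_right two_pos (by omega)
      obtain ⟨g, hg⟩ := MulAction.exists_smul_eq G S Q
      have hfQ : ∀ a ∈ (Q : Subgroup G), Commute a f := fun a ha =>
        mem_centralizer_singleton_iff.1 (map_subtype_le _ (hQeq ▸ ha))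
      have : g⁻¹ * f * g = 1 := by
        refine htriv _ (mem_centralizer_iff.2 fun a ha => ?_) ?_
        · have hga : g * a * g⁻¹ ∈ (Q : Subgroup G) := by
            rw [← hg]
            exact ⟨a, ha, rfl⟩
          have e := (hfQ _ hga).eq
          calc a * (g⁻¹ * f * g) = g⁻¹ * (g * a * g⁻¹ * f) * g := by group
            _ = g⁻¹ * (f * (g * a * g⁻¹)) * g := by rw [e]
            _ = _ := by group
        · have e : orderOf (g⁻¹ * f * g) = orderOf f := by
            simpa using MulEquiv.orderOf_eq (MulAut.conj g⁻¹) f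
          rw [e]
          exact odd_orderOf_of_mem hP.odd_card hf
      exact hf1 (by
        calc f = g * (g⁻¹ * f * g) * g⁻¹ := by group
          _ = 1 := by rw [this]; group)
    subst hk1
    rw [pow_one] at hk
    haveI : IsCyclic (T : Subgroup H) := isCyclic_of_prime_card hk
    have heven : Even (Nat.card H) :=
      even_iff_two_dvd.2 (hk ▸ Subgroup.card_subgroup_dvd_card (T : Subgroup H))
    obtain ⟨N, hN⟩ := Invol.exists_index_two_of_cyclic_sylow heven T inferInstance
    haveI := Subgroup.normal_of_index_eq_two hN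
    have hNodd : Odd (Nat.card N) := by
      rw [← Nat.not_even_iff_odd]
      intro he
      refine T.not_dvd_index ?_
      have h1 := N.card_mul_index
      rw [hN, ← (T : Subgroup H).card_mul_index, hk] at h1
      rw [show (T : Subgroup H).index = Nat.card N by omega]
      exact he.two_dvd
    have hR := exists_oddPart_of_normal N hNodd (k := 1) (by rw [hN, pow_one])
    set R := N.map H.subtype with hRdef
    have hRp : IsPGroup p R := h.isPGroup_of_pow fun g hg => h.pow_p_of_pel hfo
      (show Commute g f from mem_centralizer_singleton_iff.1 (hR.le hg)).symm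
      ((hR.iff g (hR.le hg)).1 hg)
    have hSH : (S : Subgroup G) ≤ normalizer (H : Set G) := by
      intro a ha
      have hfa : a * f * a⁻¹ = f ∨ a * f * a⁻¹ = f⁻¹ := by
        by_cases ha1 : a = 1
        · left; rw [ha1]; group
        by_cases hat : a = t
        · left
          rw [hat, show t * f = f * t from mem_centralizer_singleton_iff.1 htH, mul_inv_cancel_right]
        · right; exact hinv a ha ha1 hat f hf
      rw [mem_normalizer_iff]
      intro y
      rw [hH, mem_centralizer_singleton_iff, mem_centralizer_singleton_iff]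
      have key : Commute (a * y * a⁻¹) (a * f * a⁻¹) ↔ Commute y f := by
        refine ⟨fun hc => ?_, fun hc => hc.map (MulAut.conj a)⟩
        simpa [mul_assoc] using hc.map (MulAut.conj a⁻¹)
      rcases hfa with e | e
      · rw [e] at key; exact key.symm
      · rw [e] at key
        exact key.symm.trans Commute.inv_right_iff
    have hSR : (S : Subgroup G) ≤ normalizer (R : Set G) := hSH.trans hR.normalizer_le
    have hfR : f ∈ R := (hR.iff f (mem_centralizer_singleton_iff.2 rfl)).2
      (odd_orderOf_of_mem hP.odd_card hf)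
    have hfix : ∀ a ∈ (S : Subgroup G), a ≠ 1 → a ≠ t → ∀ y ∈ R, a * y * a = y⁻¹ := by
      intro a ha ha1 hat y hy
      refine LocalEven.CoreGen.inverts (mul_self_eq hS ha) (hSR ha)
        (eq_bot_iff.2 fun z hz => mem_bot.2 ?_) hy
      obtain ⟨hzR, hza⟩ := Subgroup.mem_inf.1 hz
      by_contra hz1
      exact no_two hS h hx htriv ⟨hRp, hSR⟩ ht ha ht1 ha1 (Ne.symm hat) hfR hzR
        (mem_centralizer_singleton_iff.1 (hP.le hf)) (mem_centralizer_singleton_iff.1 hza) hf1 hz1
    have hRC : R ≤ C := by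
      intro y hy
      have e1 := hfix s hs hs1 hst y hy
      have e2 := hfix (t * s) (mul_mem ht hs) hts1 htst y hy
      have e3 : t * y⁻¹ * t = y⁻¹ := by
        nth_rewrite 2 [← e2]
        rw [← e1]
        have hcomm := comm hS ht hs
        calc t * (s * y * s) * t = t * s * y * (s * t) := by group
          _ = t * s * y * (t * s) := by rw [hcomm]
      rw [hC, mem_centralizer_singleton_iff]
      have e4 : Commute t y⁻¹ := by
        show t * y⁻¹ = y⁻¹ * t
        calc t * y⁻¹ = t * y⁻¹ * (t * t) := by rw [mul_self_eq hS ht, mul_one]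
          _ = (t * y⁻¹ * t) * t := by group
          _ = y⁻¹ * t := by rw [e3]
      exact (Commute.inv_right_iff.1 e4).eq.symm
    -- `H = R ⊔ ⟨t⟩`
    have hcase : (⟨w, hw⟩ : H) ∈ N ∨ (⟨w, hw⟩ : H) * ⟨t, htH⟩ ∈ N := by
      by_cases hwN : (⟨w, hw⟩ : H) ∈ N
      · exact Or.inl hwN
      · refine Or.inr ((Subgroup.mul_mem_iff_of_index_two hN).2 (iff_of_false hwN fun htN => ?_))
        have := odd_orderOf_of_mem hNodd htN
        rw [← Subgroup.orderOf_coe, hto] at this
        exact absurd this (by decide)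
    rcases hcase with hwN | hwN
    · exact hRC ⟨_, hwN, rfl⟩
    · have h1 : w * t ∈ C := hRC ⟨_, hwN, rfl⟩
      exact (Subgroup.mul_mem_cancel_right C (hSC ht)).1 h1
  -- the normaliser of a nontrivial subgroup of `P`
  have hnorm : ∀ Y : Subgroup G, Y ≤ P → Y ≠ ⊥ → normalizer (Y : Set G) ≤ C := by
    intro Y hY hY1 g hg
    obtain ⟨⟨f, hf⟩, hf1⟩ := Y.ne_bot_iff_exists_ne_one.1 hY1
    have hf1' : f ≠ 1 := fun e => hf1 (Subtype.ext e)
    set t' := g * t * g⁻¹ with ht'
    have ht'2 : orderOf t' = 2 := by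
      rw [← hto]; exact MulEquiv.orderOf_eq (MulAut.conj g) t
    have ht'f : t' ∈ centralizer ({f} : Set G) := by
      rw [mem_centralizer_singleton_iff]
      have hf' : g⁻¹ * f * g ∈ Y := by
        have := (mem_normalizer_iff.1 (inv_mem hg) f).1 hf
        rwa [inv_inv] at this
      have e : Commute (g⁻¹ * f * g) t := mem_centralizer_singleton_iff.1 (hP.le (hY hf'))
      calc t' * f = g * (t * (g⁻¹ * f * g)) * g⁻¹ := by rw [ht']; group
        _ = g * (g⁻¹ * f * g * t) * g⁻¹ := by rw [e.eq]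
        _ = f * t' := by rw [ht']; group
    have ht'C := hcent f (hY hf) hf1' t' ht'f
    -- an involution of `C` centralising `f` is `t`
    have key : t' = t := by
      by_contra hne
      set u := t' * t with hu
      have hc : Commute t' t := mem_centralizer_singleton_iff.1 ht'C
      have hu2 : orderOf u = 2 := by
        refine orderOf_eq_prime ?_ fun e => hne (by rw [eq_inv_of_mul_eq_one_left e, inv_eq hS ht])
        rw [hu, hc.mul_pow, ← ht'2]
        nth_rewrite 2 [ht'2.trans hto.symm]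
        rw [pow_orderOf_eq_one, pow_orderOf_eq_one, one_mul]
      -- `t'` and `t` lie in a Sylow subgroup
      obtain ⟨Q, ht'Q, htQ⟩ := Invol.exists_sylow_of_commute ht'2 hto hc
      obtain ⟨k, hk⟩ := MulAction.exists_smul_eq G S Q
      have hQS : ∀ a ∈ (Q : Subgroup G), k⁻¹ * a * k ∈ (S : Subgroup G) := by
        intro a ha
        rw [← hk] at ha
        obtain ⟨b, hb, rfl⟩ := ha
        show k⁻¹ * (k * b * k⁻¹) * k ∈ (S : Subgroup G)
        rw [show k⁻¹ * (k * b * k⁻¹) * k = b by group]
        exact hb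
      have c1 : Commute f t' := (mem_centralizer_singleton_iff.1 ht'f : Commute t' f).symm
      have c2 : Commute f t := mem_centralizer_singleton_iff.1 (hP.le (hY hf))
      have hmapc : ∀ {a b : G}, Commute a b → Commute (k⁻¹ * a * k) (k⁻¹ * b * k) := by
        intro a b hab
        simpa using hab.map (MulAut.conj k⁻¹)
      have e1 : k⁻¹ * f * k = 1 := by
        refine htriv _ (mem_centralizer_iff.2 fun a ha => ?_) ?_
        · rcases four_cases hS (hQS _ ht'Q) (hQS _ htQ)
            (fun e => by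
              have : t' = 1 := by
                calc t' = k * (k⁻¹ * t' * k) * k⁻¹ := by group
                  _ = 1 := by rw [e]; group
              rw [this, orderOf_one] at ht'2; omega)
            (fun e => ht1 (by
              calc t = k * (k⁻¹ * t * k) * k⁻¹ := by group
                _ = 1 := by rw [e]; group))
            (fun e => hne (mul_left_cancel (mul_right_cancel e))) ha with rfl | rfl | rfl | rfl
          · simp
          · exact (hmapc c1).eq.symm
          · exact (hmapc c2).eq.symm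
          · exact ((hmapc c1).mul_right (hmapc c2)).eq.symm
        · have e : orderOf (k⁻¹ * f * k) = orderOf f := by
            simpa using MulEquiv.orderOf_eq (MulAut.conj k⁻¹) f
          rw [e]
          exact odd_orderOf_of_mem hP.odd_card (hY hf)
      exact hf1' (by
        calc f = k * (k⁻¹ * f * k) * k⁻¹ := by group
          _ = 1 := by rw [e1]; group)
    exact mem_centralizer_singleton_iff.2 (mul_inv_eq_iff_eq_mul.1 key)
  haveI := hS
  have he : Nonempty ((S : Subgroup G) ≃* DihedralGroup 2) := ⟨(IsKleinFour.nonempty_mulEquiv).some⟩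
  refine Cfsg.Agent.S0508.result S 2 le_rfl he t hto ht (fun a ha => comm hS ha ht) P ?_ ?_ ?_ hnorm
  · -- `P` is the odd core
    refine le_antisymm (fun y hy => ?_) ?_
    · haveI hn : (P.subgroupOf C).Normal := (normal_subgroupOf_iff_le_normalizer hP.le).2 hP.self_le_normalizer
      have hle : P.subgroupOf C ≤ Cfsg.oddCore C := le_sSup ⟨hn, by
        rw [Nat.card_congr (subgroupOfEquivOfLe hP.le).toEquiv]
        exact Nat.coprime_two_right.2 hP.odd_card⟩
      exact ⟨⟨y, hP.le hy⟩, hle (mem_subgroupOf.2 hy), rfl⟩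
    · rw [map_le_iff_le_comap]
      refine sSup_le fun K hK y hy => ?_
      rw [mem_comap]
      refine (hP.iff _ y.2).2 ?_
      rw [Subgroup.orderOf_coe]
      exact odd_orderOf_of_mem (Nat.coprime_two_right.1 hK.2) hy
  · intro hP1
    obtain ⟨⟨f, hf⟩, hf1⟩ := P.ne_bot_iff_exists_ne_one.1 hP1
    have hf1' : f ≠ 1 := fun e => hf1 (Subtype.ext e)
    have hK : (S : Subgroup G) ⊓ centralizer (P : Set G) = zpowers t := by
      refine le_antisymm (fun a ha' => ?_) (zpowers_le.2 (Subgroup.mem_inf.2 ⟨ht,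
        mem_centralizer_iff.2 fun y hy => mem_centralizer_singleton_iff.1 (hP.le hy)⟩))
      obtain ⟨ha, hac⟩ := Subgroup.mem_inf.1 ha'
      by_cases ha1 : a = 1
      · rw [ha1]; exact one_mem _
      by_cases hat : a = t
      · rw [hat]; exact mem_zpowers t
      exfalso
      have e := hinv a ha ha1 hat f hf
      rw [← mem_centralizer_iff.1 hac f hf, mul_inv_cancel_right] at e
      exact hf1' (eq_one_of_sq hP.odd_card hf (by
        nth_rewrite 1 [e]
        exact inv_mul_cancel f))
    rw [hK]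
    refine ⟨inferInstance, ?_⟩
    have h1 := (Subgroup.relIndex_mul_relIndex ⊥ (zpowers t) (S : Subgroup G) bot_le
      (zpowers_le.2 ht))
    rw [relIndex_bot_left, relIndex_bot_left, Nat.card_zpowers, hto, hS4] at h1
    omega
  · intro a ha hac y hy
    refine hinv a ha (fun e => hac (e ▸ one_mem _)) (fun e => hac ?_) y hy
    rw [e]
    exact mem_centralizer_iff.2 fun z hz => mem_centralizer_singleton_iff.1 (hP.le hz)

omit hS in
/-- A nonabelian simple group with Sylow 2-subgroups of order `4`, whose element orders divisible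
by `2` or by the odd prime `p` lie in `{2, p, 2p}`, is `PSL₂(q)` with `q` odd. -/
theorem klein_case [IsSimpleGroup G] (hns : ¬ (Nat.card G).Prime) (hp : p.Prime) (hp2 : p ≠ 2)
    (hO1 : ∀ g : G, 2 ∣ orderOf g → orderOf g = 2 ∨ orderOf g = 2 * p)
    (hO2 : ∀ g : G, p ∣ orderOf g → orderOf g = p ∨ orderOf g = 2 * p)
    (S : Sylow 2 G) (hS : Nat.card (S : Subgroup G) = 4) :
    ∃ (F : Type) (_ : Field F) (_ : Fintype F), Odd (Fintype.card F) ∧
      Nonempty (G ≃* Matrix.ProjectiveSpecialLinearGroup (Fin 2) F) := by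
  have hodd : Odd p := hp.odd_of_ne_two hp2
  have h2 : ∀ g ∈ (S : Subgroup G), g * g = 1 := by
    intro g hg
    have hd : orderOf g ∣ 4 := hS ▸ orderOf_dvd_natCard _ hg
    rw [← pow_two]
    obtain ⟨i, hi, he⟩ := (Nat.dvd_prime_pow Nat.prime_two).1 (show orderOf g ∣ 2 ^ 2 from hd)
    refine orderOf_dvd_iff_pow_eq_one.1 ?_
    rcases i with _ | i
    · rw [he]; norm_num
    rcases hO1 g (by rw [he]; exact dvd_pow_self 2 (Nat.succ_ne_zero i)) with e | e
    · rw [e]
    · exfalso
      rw [e] at hd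
      obtain ⟨j, hj⟩ := hodd
      have := hp.two_le
      have h4 := Nat.le_of_dvd (by norm_num) hd
      omega
  have hnc : ∃ a b : G, a * b ≠ b * a := by
    by_contra hall
    push Not at hall
    haveI : IsMulCommutative G := ⟨⟨hall⟩⟩
    exact hns (SmallGroups.prime_card_of_isMulCommutative inferInstance)
  exact klein_psl (isKleinFour_of_card hS h2) hnc ⟨hp, hodd, hO1, hO2⟩

end Cfsg.Agent.Spec2P
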