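import Cfsg.Agent.H73.TwoP.Key
import Cfsg.Agent.CIT.Socle
import Cfsg.Agent.Lib.MinimalNormal
import Mathlib.GroupTheory.Transfer

/-!
Non-solvable groups whose even element orders are `2` and `2p`: the socle.
-/

set_option autoImplicit false
set_option linter.unusedSectionVars false
set_option linter.style.haveILetI false

namespace Cfsg.Agent.Spec2P

open Subgroup Cfsg.Agent.H73.TwoP

variable {G : Type*} [Group G] [Finite G] {p : ℕ}

theorem solvable_of_le {K L : Subgroup G} (h : Group.IsSolvable L) (hle : K ≤ L) :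
    Group.IsSolvable K :=
  haveI := h
  Group.isSolvable_of_isSolvable_injective (inclusion_injective hle)

/-- The normaliser of an abelian Sylow 2-subgroup of a non-solvable group acts non-trivially. -/
theorem normalizer_not_le (hns : ¬ Group.IsSolvable G) (S : Sylow 2 G) :
    ¬ normalizer ((S : Subgroup G) : Set G) ≤ centralizer ((S : Subgroup G) : Set G) := by
  haveI : Fact (Nat.Prime 2) := ⟨Nat.prime_two⟩
  intro hle
  have hc := MonoidHom.ker_transferSylow_isComplement' S hle
  set f := MonoidHom.transferSylow S hle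
  have hodd : Odd (Nat.card f.ker) := by
    have h1 : (S : Subgroup G).index = Nat.card f.ker := hc.index_eq_card
    rw [← h1, Nat.odd_iff]
    exact Nat.two_dvd_ne_zero.1 S.not_dvd_index
  haveI : Group.IsSolvable f.ker := Cfsg.Agent.S0205.result hodd
  haveI : Group.IsNilpotent (S : Subgroup G) := S.2.isNilpotent
  exact hns (Group.isSolvable_of_ker_le_range f.ker.subtype f (by rw [range_subtype]))

/-- An element of odd prime order moving a Sylow 2-subgroup inside its normaliser. -/
theorem exists_mover (H : Hyp G p) (hns : ¬ Group.IsSolvable G) (S : Sylow 2 G) :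
    ∃ (r : ℕ) (c : G), r.Prime ∧ r ≠ 2 ∧ orderOf c = r ∧
      c ∈ normalizer ((S : Subgroup G) : Set G) ∧ c ∉ centralizer ((S : Subgroup G) : Set G) := by
  classical
  haveI : Fact (Nat.Prime 2) := ⟨Nat.prime_two⟩
  set A := normalizer ((S : Subgroup G) : Set G) with hA
  set C := (centralizer ((S : Subgroup G) : Set G)).subgroupOf A with hC
  haveI hCn : C.Normal := by
    rw [hC, ← normalizerMonoidHom_ker]; infer_instance
  have hidx1 : C.index ≠ 1 := fun h => normalizer_not_le hns S
    (subgroupOf_eq_top.1 (index_eq_one.1 h))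
  have hidx2 : ¬ 2 ∣ C.index := by
    intro h
    have hSC : (S : Subgroup G).subgroupOf A ≤ C := fun x hx =>
      mem_subgroupOf.2 (mem_centralizer_iff.2 fun y hy =>
        (H.commute_of_mem_pGroup S.2 hy (mem_subgroupOf.1 hx)).eq)
    refine S.not_dvd_index (h.trans ((index_dvd_of_le hSC).trans ?_))
    exact Dvd.intro _ (relIndex_mul_index (le_normalizer (H := (S : Subgroup G))))
  obtain ⟨r, hr, hrd⟩ := Nat.exists_prime_and_dvd hidx1
  haveI := Fact.mk hr
  have hr2 : r ≠ 2 := fun e => hidx2 (e ▸ hrd)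
  obtain ⟨x, hx⟩ := exists_prime_orderOf_dvd_card' (G := ↥A ⧸ C) r hrd
  obtain ⟨g, rfl⟩ := QuotientGroup.mk'_surjective C x
  -- the `r`-part of `g`
  obtain ⟨a, m, hm, hgm⟩ :=
    Nat.exists_eq_pow_mul_and_not_dvd (n := orderOf g) (orderOf_pos g).ne' r hr.ne_one
  set y : ↥A := g ^ m with hy
  have hyC : y ∉ C := by
    intro h
    have h1 : QuotientGroup.mk' C g ^ m = 1 := by
      rw [← map_pow]; exact (QuotientGroup.eq_one_iff _).2 h
    exact hm (hx ▸ orderOf_dvd_of_pow_eq_one h1)
  have hyo : ((y : ↥A) : G) ^ (r ^ a) = 1 := by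
    rw [← SubmonoidClass.coe_pow, hy, ← pow_mul, mul_comm, ← hgm, pow_orderOf_eq_one, coe_one]
  have hne1 : ((y : ↥A) : G) ≠ 1 := fun h => hyC (by
    rw [show y = 1 from Subtype.ext h]; exact one_mem C)
  have hyr : ((y : ↥A) : G) ^ r = 1 := by
    by_cases hrp : r = p
    · subst hrp; exact H.pow_p_of_pElem hyo
    have hyrC : y ^ r ∈ C := by
      refine (QuotientGroup.eq_one_iff _).1 ?_
      show QuotientGroup.mk' C (y ^ r) = 1
      rw [hy, ← pow_mul, mul_comm, pow_mul, map_pow, map_pow, ← hx, pow_orderOf_eq_one, one_pow]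
    have hodd : Odd (orderOf (((y : ↥A) : G) ^ r)) :=
      ((hr.odd_of_ne_two hr2).pow (n := a)).of_dvd_nat
        ((orderOf_pow_dvd r).trans (orderOf_dvd_of_pow_eq_one hyo))
    obtain ⟨t, htS, ht⟩ : ∃ t ∈ (S : Subgroup G), orderOf t = 2 := by
      by_contra hcon
      push Not at hcon
      refine normalizer_not_le hns S fun z _ => mem_centralizer_iff.2 fun s hs => ?_
      have : s = 1 := by_contra fun h1 => hcon s hs
        (orderOf_eq_prime (by rw [pow_two]; exact H.mul_self_of_mem_pGroup S.2 hs) h1)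
      simp [this]
    have hcomm : Commute t (((y : ↥A) : G) ^ r) := by
      have h1 := mem_centralizer_iff.1 (mem_subgroupOf.1 hyrC) t htS
      exact h1
    have h2 := H.pow_p_eq_one ht hcomm hodd
    refine orderOf_eq_one_iff.1 (Nat.eq_one_of_dvd_coprimes
      (((Nat.coprime_primes hr H.hp).2 hrp).pow_left a) ?_ (orderOf_dvd_of_pow_eq_one h2))
    exact (orderOf_pow_dvd r).trans (orderOf_dvd_of_pow_eq_one hyo)
  exact ⟨r, y, hr, hr2, orderOf_eq_prime hyr hne1, y.2, fun h => hyC (mem_subgroupOf.2 h)⟩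

/-- There is no non-trivial solvable normal subgroup. -/
theorem eq_bot_of_solvable (H : Hyp G p) (hns : ¬ Group.IsSolvable G) (R : Subgroup G)
    (hR : R.Normal) (hs : Group.IsSolvable ↥R) : R = ⊥ := by
  classical
  haveI : Fact (Nat.Prime 2) := ⟨Nat.prime_two⟩
  by_contra hne
  haveI := hR
  obtain ⟨N, hN, hN1, hNR, hmin⟩ := MinNormal.exists_minimal_normal_le R hne
  haveI := hN
  haveI := hs
  haveI : Group.IsSolvable N := Group.isSolvable_of_isSolvable_injective (inclusion_injective hNR)
  obtain ⟨hNc, l, hl, hexp, hNl⟩ := MinNormal.elementary_abelian N hN1 hmin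
  haveI := Fact.mk hl
  obtain ⟨n, hn, hn1⟩ := N.bot_or_exists_ne_one.resolve_left hN1
  have hno : orderOf n = l := orderOf_eq_prime (hexp n hn) hn1
  set C := centralizer (N : Set G) with hC
  haveI : C.Normal := normal_centralizer
  obtain ⟨S⟩ : Nonempty (Sylow 2 G) := inferInstance
  obtain ⟨r, c, hr, hr2, hc, hcN, hcC⟩ := exists_mover H hns S
  by_cases hl2 : l = 2
  · subst hl2
    haveI : Group.IsSolvable C :=
      solvable_of_le (H.isSolvable_centralizer (Or.inl hno)) ((show C ≤ centralizer ({n} : Set G) from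
          centralizer_le (by simpa using hn)))
    have hSC : (S : Subgroup G) ≤ C := fun s hsS => mem_centralizer_iff.2 fun m hm =>
      (H.commute_of_mem_pGroup S.2
        ((Cores.le_pCore hN hNl).trans (Cores.pCore_le_sylow S) hm) hsS).eq
    have hodd : Odd (Nat.card (G ⧸ C)) := by
      rw [Nat.odd_iff]
      refine Nat.two_dvd_ne_zero.1 fun h => S.not_dvd_index ?_
      exact h.trans (index_dvd_of_le hSC)
    haveI : Group.IsSolvable (G ⧸ C) := Cfsg.Agent.S0205.result hodd
    exact hns ((Group.isSolvable_iff_subgroup_quotient C).2 ⟨inferInstance, inferInstance⟩)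
  have hNodd : ∀ m ∈ N, Odd (orderOf m) := fun m hm =>
    (hl.odd_of_ne_two hl2).of_dvd_nat (orderOf_dvd_of_pow_eq_one (hexp m hm))
  by_cases hlp : l = p
  swap
  · -- every involution inverts `N`
    have hinv : ∀ t ∈ (S : Subgroup G), t ≠ 1 → t * n * t⁻¹ = n⁻¹ := by
      intro t ht ht1
      have hto : orderOf t = 2 :=
        orderOf_eq_prime (by rw [pow_two]; exact H.mul_self_of_mem_pGroup S.2 ht) ht1
      have htn : t * n * t⁻¹ ∈ N := hN.conj_mem n hn t
      have hti : t⁻¹ = t := inv_eq_of_mul_eq_one_right (H.mul_self_of_mem_pGroup S.2 ht)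
      have hcomm : Commute n (t * n * t⁻¹) :=
        congrArg Subtype.val (hNc.is_comm.comm (⟨n, hn⟩ : N) ⟨_, htn⟩)
      have hfix : Commute t (n * (t * n * t⁻¹)) := by
        show t * (n * (t * n * t⁻¹)) = n * (t * n * t⁻¹) * t
        rw [hcomm.eq, hti]
        calc t * (t * n * t * n) = (t * t) * (n * t * n) := by group
          _ = n * t * n * (t * t) := by
              rw [H.mul_self_of_mem_pGroup S.2 ht, one_mul, mul_one]
          _ = t * n * t * n * t := by
              rw [show t * n * t * n = n * (t * n * t) by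
                have := hcomm.eq; rw [hti] at this; exact this.symm]
              group
      have h1 := H.pow_p_eq_one hto hfix (hNodd _ (mul_mem hn htn))
      have h2 : n * (t * n * t⁻¹) = 1 := by
        refine orderOf_eq_one_iff.1 (Nat.eq_one_of_dvd_coprimes
          ((Nat.coprime_primes hl H.hp).2 hlp)
          (orderOf_dvd_of_pow_eq_one (hexp _ (mul_mem hn htn))) (orderOf_dvd_of_pow_eq_one h1))
      exact eq_inv_of_mul_eq_one_right h2
    obtain ⟨s, hsS, hsc⟩ : ∃ s ∈ (S : Subgroup G), c * s * c⁻¹ ≠ s := by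
      by_contra h
      push Not at h
      exact hcC (mem_centralizer_iff.2 fun s hs => (mul_inv_eq_iff_eq_mul.1 (h s hs)).symm)
    have htS : c * s * c⁻¹ ∈ (S : Subgroup G) := (mem_normalizer_iff.1 hcN s).1 hsS
    have hs1 : s ≠ 1 := fun e => hsc (by simp [e])
    have ht1 : c * s * c⁻¹ ≠ 1 := fun e => hs1 (conj_eq_one_iff.1 e)
    set t := c * s * c⁻¹
    have hst : s * t ≠ 1 := fun e => hsc (by
      have := eq_inv_of_mul_eq_one_right e
      rw [this, inv_eq_of_mul_eq_one_right (H.mul_self_of_mem_pGroup S.2 hsS)])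
    have h3 := hinv (s * t) (mul_mem hsS htS) hst
    have h4 : (s * t) * n * (s * t)⁻¹ = n := by
      calc (s * t) * n * (s * t)⁻¹ = s * (t * n * t⁻¹) * s⁻¹ := by group
        _ = (s * n * s⁻¹)⁻¹ := by rw [hinv t htS ht1]; group
        _ = n := by rw [hinv s hsS hs1, inv_inv]
    rw [h4] at h3
    have hno' : orderOf n ∣ 2 := orderOf_dvd_of_pow_eq_one (by
      rw [pow_two]; nth_rewrite 2 [h3]; exact mul_inv_cancel n)
    rw [hno, Nat.prime_dvd_prime_iff_eq hl Nat.prime_two] at hno'
    exact hl2 hno'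
  subst hlp
  -- `N` is a `p`-group: an elementary subgroup of `S` centralises it
  let E : Subgroup G :=
    { carrier := {e | ∃ s ∈ (S : Subgroup G), e = c * s * c⁻¹ * s}
      one_mem' := ⟨1, one_mem _, by simp⟩
      mul_mem' := by
        rintro _ _ ⟨s, hs, rfl⟩ ⟨t, ht, rfl⟩
        refine ⟨s * t, mul_mem hs ht, ?_⟩
        have hcs : Commute s (c * t * c⁻¹) :=
          H.commute_of_mem_pGroup S.2 hs ((mem_normalizer_iff.1 hcN t).1 ht)
        calc c * s * c⁻¹ * s * (c * t * c⁻¹ * t) = c * s * c⁻¹ * (s * (c * t * c⁻¹)) * t := by group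
          _ = c * s * c⁻¹ * ((c * t * c⁻¹) * s) * t := by rw [hcs.eq]
          _ = c * (s * t) * c⁻¹ * (s * t) := by group
      inv_mem' := by
        rintro _ ⟨s, hs, rfl⟩
        refine ⟨s, hs, inv_eq_of_mul_eq_one_right (H.mul_self_of_mem_pGroup S.2
          (mul_mem ((mem_normalizer_iff.1 hcN s).1 hs) hs))⟩ }
  have hES : E ≤ (S : Subgroup G) := by
    rintro _ ⟨s, hs, rfl⟩
    exact mul_mem ((mem_normalizer_iff.1 hcN s).1 hs) hs
  have hEN : E ≤ normalizer (N : Set G) := by
    rw [normalizer_eq_top]; exact le_top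
  have hcE : c ∈ normalizer (E : Set G) := by
    refine mem_normalizer_iff.2 fun e => ⟨?_, ?_⟩
    · rintro ⟨s, hs, rfl⟩
      exact ⟨c * s * c⁻¹, (mem_normalizer_iff.1 hcN s).1 hs, by group⟩
    · rintro ⟨s, hs, he⟩
      refine ⟨c⁻¹ * s * c, (mem_normalizer_iff''.1 hcN s).1 hs, ?_⟩
      calc e = c⁻¹ * (c * e * c⁻¹) * c := by group
        _ = c⁻¹ * (c * s * c⁻¹ * s) * c := by rw [he]
        _ = c * (c⁻¹ * s * c) * c⁻¹ * (c⁻¹ * s * c) := by group
  have hfpf : ∀ e ∈ E, c * e = e * c → e = 1 := by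
    rintro _ ⟨s, hs, rfl⟩ hce
    have hs2 : s * s = 1 := H.mul_self_of_mem_pGroup S.2 hs
    have hsi : s⁻¹ = s := inv_eq_of_mul_eq_one_right hs2
    -- `c ^ 2` fixes `s`
    have h1 : Commute (c ^ 2) s := by
      have h2 : c * (c * s * c⁻¹ * s) * c⁻¹ = c * s * c⁻¹ * s := mul_inv_eq_iff_eq_mul.2 hce
      have h3 : c * (c * s * c⁻¹) * c⁻¹ = s := by
        have hd : Commute (c * s * c⁻¹) s :=
          H.commute_of_mem_pGroup S.2 ((mem_normalizer_iff.1 hcN s).1 hs) hs
        calc c * (c * s * c⁻¹) * c⁻¹ = c * (c * s * c⁻¹ * s) * c⁻¹ * (c * s * c⁻¹)⁻¹ := by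
              group
          _ = c * s * c⁻¹ * s * (c * s * c⁻¹)⁻¹ := by rw [h2]
          _ = s := by rw [hd.eq]; group
      show c ^ 2 * s = s * c ^ 2
      calc c ^ 2 * s = c * (c * s * c⁻¹) * c⁻¹ * c ^ 2 := by rw [pow_two]; group
        _ = s * c ^ 2 := by rw [h3]
    obtain ⟨j, hj⟩ := hr.odd_of_ne_two hr2
    have h4 : Commute (c⁻¹) s := by
      have h5 : c⁻¹ = (c ^ 2) ^ j := by
        refine inv_eq_of_mul_eq_one_right ?_
        rw [← pow_mul, ← pow_succ', ← hj, ← hc, pow_orderOf_eq_one]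
      rw [h5]; exact h1.pow_left j
    have h6 : c * s * c⁻¹ = s := by
      have h7 : Commute c s := (Commute.inv_left_iff).1 h4
      rw [h7.eq]; group
    rw [h6, hs2]
  have hcNN : c ∈ normalizer (N : Set G) := by rw [normalizer_eq_top]; exact mem_top c
  have hkey := H.key hNl (S.2.to_le hES) hEN hr hr2 hc hcNN hcE hfpf
  obtain ⟨e, he, he1⟩ : ∃ e ∈ E, e ≠ 1 := by
    obtain ⟨s, hsS, hsc⟩ : ∃ s ∈ (S : Subgroup G), c * s * c⁻¹ ≠ s := by
      by_contra h
      push Not at h
      exact hcC (mem_centralizer_iff.2 fun s hs => (mul_inv_eq_iff_eq_mul.1 (h s hs)).symm)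
    refine ⟨_, ⟨s, hsS, rfl⟩, fun e => hsc ?_⟩
    rw [eq_inv_of_mul_eq_one_left e, inv_eq_of_mul_eq_one_right (H.mul_self_of_mem_pGroup S.2 hsS)]
  have heo : orderOf e = 2 :=
    orderOf_eq_prime (by rw [pow_two]; exact H.mul_self_of_mem_pGroup S.2 (hES he)) he1
  haveI hCsol : Group.IsSolvable C :=
    solvable_of_le (H.isSolvable_centralizer (Or.inr hno)) ((show C ≤ centralizer ({n} : Set G) from
        centralizer_le (by simpa using hn)))
  -- Frattini
  obtain ⟨P⟩ : Nonempty (Sylow 2 C) := inferInstance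
  set S0 := (P : Subgroup C).map C.subtype with hS0
  have hP : IsPGroup 2 S0 := P.2.map _
  obtain ⟨s0, hs0, hs0'⟩ : ∃ s0 ∈ S0, orderOf s0 = 2 := by
    have hdvd : 2 ∣ Nat.card C := heo ▸ C.orderOf_dvd_natCard (hkey he)
    obtain ⟨⟨y, hy⟩, hyo⟩ := exists_prime_orderOf_dvd_card' 2 (P.dvd_card_of_dvd_card hdvd)
    refine ⟨y, ⟨y, hy, rfl⟩, ?_⟩
    rw [Subgroup.orderOf_mk] at hyo
    rw [Subgroup.orderOf_coe, hyo]
  obtain ⟨T, hT⟩ := hP.exists_le_sylow
  set M := normalizer (S0 : Set G) with hM
  haveI : Group.IsSolvable (centralizer (S0 : Set G)) :=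
    solvable_of_le (H.isSolvable_centralizer (Or.inl hs0')) ((show centralizer (S0 : Set G) ≤ centralizer ({s0} : Set G) from
        centralizer_le (by simpa using hs0)))
  set K := (centralizer (S0 : Set G)).subgroupOf M with hK
  haveI : K.Normal := by rw [hK, ← normalizerMonoidHom_ker]; infer_instance
  haveI : Group.IsSolvable K := Group.isSolvable_of_isSolvable_injective
    (f := ((subgroupOfEquivOfLe (centralizer_le_normalizer (S0 : Set G))).toMonoidHom))
    (MulEquiv.injective _)
  have hoddM : Odd (Nat.card (↥M ⧸ K)) := by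
    rw [Nat.odd_iff]
    refine Nat.two_dvd_ne_zero.1 fun h => T.not_dvd_index ?_
    have hTC : (T : Subgroup G) ≤ centralizer (S0 : Set G) := fun t ht =>
      mem_centralizer_iff.2 fun s hs => (H.commute_of_mem_pGroup T.2 (hT hs) ht).eq
    exact (h.trans (Dvd.intro _ (relIndex_mul_index (centralizer_le_normalizer _)))).trans
      (index_dvd_of_le hTC)
  haveI : Group.IsSolvable (↥M ⧸ K) := Cfsg.Agent.S0205.result hoddM
  haveI hMsol : Group.IsSolvable M :=
    (Group.isSolvable_iff_subgroup_quotient K).2 ⟨inferInstance, inferInstance⟩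
  have htop := Sylow.normalizer_sup_eq_top P
  haveI : Group.IsSolvable (G ⧸ C) := by
    refine Group.isSolvable_of_surjective (f := (QuotientGroup.mk' C).comp M.subtype) fun y => ?_
    obtain ⟨g, rfl⟩ := QuotientGroup.mk'_surjective C y
    have hg : g ∈ M ⊔ C := by rw [hM, hS0, htop]; exact mem_top g
    obtain ⟨u, hu, v, hv, rfl⟩ := mem_sup_of_normal_right.1 hg
    refine ⟨⟨u, hu⟩, ?_⟩
    show (QuotientGroup.mk' C) u = _
    rw [map_mul, show QuotientGroup.mk' C v = 1 from (QuotientGroup.eq_one_iff (N := C) v).2 hv,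
      mul_one]
  exact hns ((Group.isSolvable_iff_subgroup_quotient C).2 ⟨inferInstance, inferInstance⟩)

/-- The socle is simple with trivial centraliser. -/
theorem socle (H : Hyp G p) (hns : ¬ Group.IsSolvable G) :
    ∃ N : Subgroup G, N.Normal ∧ IsSimpleGroup ↥N ∧ ¬ Group.IsSolvable ↥N ∧
      centralizer (N : Set G) = ⊥ := by
  have hss := eq_bot_of_solvable H hns
  haveI : Nontrivial G := not_subsingleton_iff_nontrivial.mp fun _ => hns inferInstance
  have hsolv : ∀ (K : Subgroup G) {t : G}, orderOf t = 2 → (∀ k ∈ K, Commute t k) →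
      Group.IsSolvable K := fun K t ht h =>
    solvable_of_le (H.isSolvable_centralizer (Or.inl ht)) ((show K ≤ centralizer ({t} : Set G) from fun k hk =>
        mem_centralizer_singleton_iff.2 (h k hk).symm.eq))
  obtain ⟨N, hN, hN1, hmin⟩ := MinNormal.exists_minimal_normal (G := G)
  haveI := hN
  have hNns : ¬ Group.IsSolvable ↥N := fun h => hN1 (hss N hN h)
  refine ⟨N, hN, ?_, hNns, ?_⟩
  · haveI : Nontrivial N := (Subgroup.nontrivial_iff_ne_bot N).2 hN1
    refine ⟨fun K₀ hK₀ => ?_⟩
    by_cases h0 : K₀ = ⊥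
    · exact Or.inl h0
    obtain ⟨K, hK, hK1, hKK₀, hKmin⟩ := MinNormal.exists_minimal_normal_le K₀ h0
    refine Or.inr ?_
    have key : (K.map N.subtype).Normal := by
      constructor
      intro x hx g
      by_contra hgn
      set c : MulAut N := MulAut.conjNormal g with hc
      have hKc : (K.map c.toMonoidHom).Normal := hK.map _ c.surjective
      have hne : K ≠ K.map c.toMonoidHom := by
        obtain ⟨k, hk, rfl⟩ := hx
        intro he
        apply hgn
        have h1 : c k ∈ K.map c.toMonoidHom := ⟨k, hk, rfl⟩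
        rw [← he] at h1
        exact ⟨c k, h1, MulAut.conjNormal_apply g k⟩
      have hinf : K ⊓ K.map c.toMonoidHom = ⊥ := by
        refine (hKmin _ inferInstance inf_le_left).resolve_right fun h => hne ?_
        exact Subgroup.eq_of_le_of_card_ge (inf_eq_left.1 h)
          (Subgroup.card_map_of_injective c.injective).le
      have hsn : ∀ L : Subgroup N, L.Normal → (L.map N.subtype).IsSubnormal := fun L hL =>
        Subgroup.IsSubnormal.trans' (Subgroup.Normal.isSubnormal hL)
          (Subgroup.Normal.isSubnormal hN)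
      have hK' : K.map c.toMonoidHom ≠ ⊥ := by
        exact fun h => hK1 ((Subgroup.map_eq_bot_iff_of_injective K c.injective).1 h)
      obtain ⟨t, htK', ht⟩ := CIT.exists_involution_of_normal hss (hsn _ hKc) (by
        rw [Ne, Subgroup.map_eq_bot_iff_of_injective _ N.subtype_injective]; exact hK')
      refine hK1 ((Subgroup.map_eq_bot_iff_of_injective _ N.subtype_injective).1
        (CIT.subnormal_solvable_eq_bot hss (hsn K hK) (hsolv _ ht ?_)))
      obtain ⟨t', ht'K, rfl⟩ := htK'
      rintro _ ⟨k, hk, rfl⟩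
      exact (Subgroup.commute_of_normal_of_disjoint K (K.map c.toMonoidHom) hK hKc
        (disjoint_iff.2 hinf) k t' hk ht'K).symm.map N.subtype
    rcases hmin (K.map N.subtype) key (Subgroup.map_subtype_le K) with h | h
    · exact absurd ((Subgroup.map_eq_bot_iff_of_injective _ N.subtype_injective).1 h) hK1
    · refine eq_top_iff.2 (le_trans ?_ hKK₀)
      intro x _
      obtain ⟨k, hk, hkx⟩ := (SetLike.ext_iff.1 h (x : G)).2 x.2
      rwa [← Subtype.ext (a1 := k) (a2 := x) hkx]
  · by_contra hC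
    haveI hCn : (centralizer (N : Set G)).Normal := Subgroup.normal_centralizer
    obtain ⟨t, htC, ht⟩ := CIT.exists_involution_of_normal hss
      (Subgroup.Normal.isSubnormal hCn) hC
    exact hNns (hsolv N ht fun k hk => (mem_centralizer_iff.1 htC k hk).symm)

/-- The hypothesis passes to subgroups. -/
theorem hyp_subgroup (H : Hyp G p) (N : Subgroup G) : Hyp ↥N p where
  hp := H.hp
  hp2 := H.hp2
  even g h := by
    rw [← Subgroup.orderOf_coe] at h ⊢; exact H.even _ h
  dvd g h := by
    rw [← Subgroup.orderOf_coe] at h ⊢; exact H.dvd _ h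

end Cfsg.Agent.Spec2P
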